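import Groth.Prelude.Def_W4c5nonratstablectREq
import Groth.Agent.WeilExt.Spread
import Groth.Agent.AbVarLib.ExtendCurve
import Groth.Agent.P1Const.Basic
import Groth.Agent.VBStable.Main
import Groth.Agent.IntMult66.Fam
import Groth.Agent.ProjProper.Basic
import Groth.Agent.CohOps.PnSmooth
import Groth.Agent.ProperFin.PnBase

/-!
# R-links spread to families of projective lines
-/

set_option autoImplicit false
set_option linter.unusedSectionVars false
set_option linter.style.haveILetI false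
set_option backward.isDefEq.respectTransparency false
set_option synthInstance.maxHeartbeats 400000

universe u

open CategoryTheory CategoryTheory.Limits AlgebraicGeometry

noncomputable section

namespace Groth.Agent.REqPhi95

theorem isIntegral_P1K (K : Type u) [Field K] : IsIntegral (REq.P1K K) := by
  obtain ⟨e, -⟩ := ProperFin.exists_iso_projSpaceOver 1 K
  haveI := VBStable.isIntegral_projSpace K 1
  exact IsIntegral.of_isIso e.inv

theorem valuationRing_stalk_P1K (K : Type u) [Field K] [IsIntegral (REq.P1K K)] (x : REq.P1K K) :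
    ValuationRing ((REq.P1K K).presheaf.stalk x) := by
  obtain ⟨e, -⟩ := ProperFin.exists_iso_projSpaceOver 1 K
  obtain ⟨i, hi⟩ : ∃ i : Fin 2, e.hom x ∈ Proj.basicOpen (CohB1.polyGrading 1 K) (MvPolynomial.X i) := by
    have := P1Const.iSup_basicOpen K
    exact TopologicalSpace.Opens.mem_iSup.mp (this ▸ TopologicalSpace.Opens.mem_top (e.hom x))
  haveI : IsIso (CommRingCat.ofHom (P1Const.ψ K i)) :=
    (ConcreteCategory.isIso_iff_bijective _).2 (P1Const.ψ_bijective K i)
  let c : Spec (CommRingCat.of (Polynomial K)) ⟶ REq.P1K K := P1Const.chart K i ≫ e.inv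
  haveI : IsOpenImmersion (P1Const.chart K i) := by unfold P1Const.chart; infer_instance
  obtain ⟨z, hz⟩ : e.hom x ∈ Set.range (P1Const.chart K i) := by
    unfold P1Const.chart
    rw [Scheme.Hom.comp_base, TopCat.coe_comp, Set.range_comp,
      Set.range_eq_univ.mpr (Spec.map (CommRingCat.ofHom (P1Const.ψ K i))).surjective, Set.image_univ]
    rw [← Scheme.Hom.coe_opensRange, Proj.opensRange_awayι]
    exact hi
  have hcz : c z = x := by
    show e.inv (P1Const.chart K i z) = x
    rw [hz, ← Scheme.Hom.comp_apply, e.hom_inv_id]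
    rfl
  subst hcz
  haveI : IsIso (c.stalkMap z) := inferInstance
  haveI := AbVarLib.ExtendCurve.valuationRing_stalk (CommRingCat.of (Polynomial K)) z
  haveI : IsDomain ((REq.P1K K).presheaf.stalk (c z)) :=
    (asIso (c.stalkMap z)).commRingCatIsoToRingEquiv.toMulEquiv.isDomain _
  exact Function.Surjective.valuationRing (asIso (c.stalkMap z)).commRingCatIsoToRingEquiv.symm.toRingHom
    (asIso (c.stalkMap z)).commRingCatIsoToRingEquiv.symm.surjective

variable {k : Type u} [Field k] {X : Scheme.{u}} {f : X ⟶ Spec (CommRingCat.of k)}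

/-- The morphism of a link extends to the whole projective line. -/
theorem exists_link_hom [IsProper f] {K : Type u} [Field K] [Algebra k K] {A B : REq.Pts f K}
    (h : REq.ElemLink f K A B) :
    ∃ (H : REq.P1K K ⟶ X) (a b : Spec (CommRingCat.of K) ⟶ REq.P1K K),
      H ≫ f = REq.P1K.toSpec K ≫ REq.specMap k K ∧ a ≫ REq.P1K.toSpec K = 𝟙 _ ∧
      b ≫ REq.P1K.toSpec K = 𝟙 _ ∧ a ≫ H = A.1 ∧ b ≫ H = B.1 := by
  obtain ⟨U, m, a, b, hm, ha, hb, hA, hB⟩ := h
  haveI := isIntegral_P1K K
  haveI : Nonempty (U : Scheme.{u}) := ⟨a (IsLocalRing.closedPoint K)⟩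
  have hη : genericPoint (REq.P1K K) ∈ U :=
    (genericPoint_specializes (U.ι (a (IsLocalRing.closedPoint K)))).mem_open U.2
      (a (IsLocalRing.closedPoint K)).2
  obtain ⟨H, hHf, hHη⟩ := AbVarLib.ExtendCurve.exists_extension (valuationRing_stalk_P1K K)
    (REq.P1K.toSpec K ≫ REq.specMap k K) f (U.fromSpecStalkOfMem _ hη ≫ m)
    (by rw [Category.assoc, hm, Scheme.Opens.fromSpecStalkOfMem_ι_assoc])
  haveI : IsIntegral (U : Scheme.{u}) := isIntegral_of_isOpenImmersion U.ι
  haveI : IsDominant (U.fromSpecStalkOfMem (genericPoint (REq.P1K K)) hη) := ⟨fun w => by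
    let c := U.fromSpecStalkOfMem (genericPoint (REq.P1K K)) hη (IsLocalRing.closedPoint _)
    have hc : U.ι c = genericPoint (REq.P1K K) := by
      rw [← Scheme.Hom.comp_apply, Scheme.Opens.fromSpecStalkOfMem_ι, Scheme.fromSpecStalk_closedPoint]
    have h1 : c ⤳ w := U.ι.isOpenEmbedding.isInducing.specializes_iff.mp (hc ▸ genericPoint_specializes _)
    exact closure_mono (show ({c} : Set _) ⊆ Set.range (U.fromSpecStalkOfMem (genericPoint (REq.P1K K)) hη) from
      Set.singleton_subset_iff.mpr ⟨IsLocalRing.closedPoint _, rfl⟩) (specializes_iff_mem_closure.mp h1)⟩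
  have hUH : U.ι ≫ H = m :=
    ext_of_isDominant_of_isSeparated f (by rw [Category.assoc, hHf, hm])
      (U.fromSpecStalkOfMem (genericPoint (REq.P1K K)) hη)
      (by rw [Scheme.Opens.fromSpecStalkOfMem_ι_assoc, hHη])
  exact ⟨H, a ≫ U.ι, b ≫ U.ι, hHf, by rw [Category.assoc, ha], by rw [Category.assoc, hb],
    by rw [Category.assoc, hUH, hA], by rw [Category.assoc, hUH, hB]⟩

variable {R : Type u} [CommRing R] [IsDomain R] [IsNoetherianRing R] [Algebra k R]

/-- The structure morphism. -/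
abbrev πR (k R : Type u) [Field k] [CommRing R] [Algebra k R] :
    Spec (CommRingCat.of R) ⟶ Spec (CommRingCat.of k) := Spec.map (CommRingCat.ofHom (algebraMap k R))

theorem genPt_πR : Neron.genPt R ≫ πR k R = REq.specMap k (FractionRing R) := by
  rw [Neron.genPt, πR, REq.specMap, ← Spec.map_comp, ← CommRingCat.ofHom_comp, ← IsScalarTower.algebraMap_eq]

/-- A morphism on the generic fibre of a smooth family extends over an open. -/
theorem exists_spread_rel {Y G : Scheme.{u}} (pY : Y ⟶ Spec (CommRingCat.of R)) [Smooth pY]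
    (hY : ∀ y : Y, IsRegularLocalRing (Y.presheaf.stalk y)) (pG : G ⟶ Spec (CommRingCat.of k))
    [IsSeparated pG] [LocallyOfFiniteType pG] (a : pullback pY (Neron.genPt R) ⟶ G)
    (ha : a ≫ pG = pullback.fst pY _ ≫ pY ≫ πR k R) :
    ∃ (U : Y.Opens) (g : (U : Scheme.{u}) ⟶ G), g ≫ pG = U.ι ≫ pY ≫ πR k R ∧
      Set.range (pullback.fst pY (Neron.genPt R)).base ⊆ (U : Set Y) ∧
      ∀ l : pullback pY (Neron.genPt R) ⟶ (U : Scheme.{u}), l ≫ U.ι = pullback.fst pY _ → l ≫ g = a := by
  obtain ⟨U, g, -, hg, hsub, hl⟩ := WeilExt.exists_spread pY (pullback.snd pG (πR k R)) hY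
    (pullback.lift a (pullback.fst pY _ ≫ pY) (by rw [ha, Category.assoc])) (pullback.lift_snd _ _ _)
  refine ⟨U, g ≫ pullback.fst _ _, ?_, hsub, fun l hl' => ?_⟩
  · rw [Category.assoc, pullback.condition, reassoc_of% hg]
  · rw [reassoc_of% (hl l hl'), pullback.lift_fst]

/-- The generic point in an open of the base. -/
theorem bot_mem (O : (Spec (CommRingCat.of R)).Opens) (hO : (O : Set (Spec (CommRingCat.of R))).Nonempty) :
    (⟨⊥, Ideal.isPrime_bot⟩ : PrimeSpectrum R) ∈ O := by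
  obtain ⟨x, hx⟩ := hO
  exact ((PrimeSpectrum.le_iff_specializes (⟨⊥, Ideal.isPrime_bot⟩ : PrimeSpectrum R) x).1 bot_le).mem_open O.2 hx

/-- A point over the fraction field spreads to an open of the base. -/
theorem exists_spread_pt (hreg : ∀ y : ↥(Spec (CommRingCat.of R)), IsRegularLocalRing ((Spec (CommRingCat.of R)).presheaf.stalk y))
    {G : Scheme.{u}} (pG : G ⟶ Spec (CommRingCat.of k)) [IsSeparated pG] [LocallyOfFiniteType pG]
    (x : Spec (CommRingCat.of (FractionRing R)) ⟶ G) (hx : x ≫ pG = REq.specMap k (FractionRing R)) :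
    ∃ (O : (Spec (CommRingCat.of R)).Opens) (η : Spec (CommRingCat.of (FractionRing R)) ⟶ (O : Scheme.{u}))
      (g : (O : Scheme.{u}) ⟶ G), η ≫ O.ι = Neron.genPt R ∧ g ≫ pG = O.ι ≫ πR k R ∧ η ≫ g = x := by
  let e : pullback (𝟙 (Spec (CommRingCat.of R))) (Neron.genPt R) ⟶ Spec (CommRingCat.of (FractionRing R)) :=
    pullback.snd _ _
  have hfst : pullback.fst (𝟙 (Spec (CommRingCat.of R))) (Neron.genPt R) = e ≫ Neron.genPt R := by
    rw [← pullback.condition, Category.comp_id]
  obtain ⟨U, g, hg, hsub, hl⟩ := exists_spread_rel (𝟙 (Spec (CommRingCat.of R))) hreg pG (e ≫ x) (by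
    rw [Category.assoc, hx, Category.id_comp, hfst, Category.assoc, genPt_πR])
  have hr : Set.range (Neron.genPt R) ⊆ Set.range U.ι := by
    rw [Scheme.Opens.range_ι]
    rintro _ ⟨z, rfl⟩
    obtain ⟨w, rfl⟩ := e.surjective z
    exact hsub ⟨w, by rw [hfst]; rfl⟩
  refine ⟨U, IsOpenImmersion.lift U.ι _ hr, g, IsOpenImmersion.lift_fac _ _ _, by rw [hg, Category.id_comp], ?_⟩
  have h1 := hl (e ≫ IsOpenImmersion.lift U.ι _ hr) (by rw [Category.assoc, IsOpenImmersion.lift_fac, hfst])
  rw [Category.assoc] at h1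
  exact (cancel_epi e).1 h1

/-- A morphism from the projective line over the fraction field spreads over an open of the base. -/
theorem exists_spread_line
    (hreg : ∀ y : ↥(CohB1.ProjSpaceOver 1 (Spec (CommRingCat.of R))),
      IsRegularLocalRing ((CohB1.ProjSpaceOver 1 (Spec (CommRingCat.of R))).presheaf.stalk y))
    [IsSeparated f] [LocallyOfFiniteType f] (H : REq.P1K (FractionRing R) ⟶ X)
    (hH : H ≫ f = REq.P1K.toSpec _ ≫ REq.specMap k (FractionRing R)) :
    ∃ (aT : REq.P1K (FractionRing R) ⟶ CohB1.ProjSpaceOver 1 (Spec (CommRingCat.of R)))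
      (U : (CohB1.ProjSpaceOver 1 (Spec (CommRingCat.of R))).Opens) (g : (U : Scheme.{u}) ⟶ X)
      (l : REq.P1K (FractionRing R) ⟶ (U : Scheme.{u})) (O : (Spec (CommRingCat.of R)).Opens),
      aT ≫ CohB1.ProjSpaceOver.toBase 1 _ = REq.P1K.toSpec _ ≫ Neron.genPt R ∧
      g ≫ f = U.ι ≫ CohB1.ProjSpaceOver.toBase 1 _ ≫ πR k R ∧ l ≫ U.ι = aT ∧ l ≫ g = H ∧
      Set.range (Neron.genPt R) ⊆ (O : Set _) ∧
      (CohB1.ProjSpaceOver.toBase 1 (Spec (CommRingCat.of R))) ⁻¹ᵁ O ≤ U := by
  obtain ⟨aT, haT⟩ := IntMult66.isPullback_projSpaceOver_comp (Neron.genPt R)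
  let pY := CohB1.ProjSpaceOver.toBase 1 (Spec (CommRingCat.of R))
  haveI : Smooth pY := CohOps.PnSmooth.smooth_toBase 1 _
  haveI : IsProper pY := ProjProper.Basic.isProper_toBase 1 _
  let e := haT.isoPullback
  obtain ⟨U, g, hg, hsub, hl⟩ := exists_spread_rel pY hreg f (e.inv ≫ H) (by
    rw [Category.assoc, hH, ← Category.assoc e.inv, haT.isoPullback_inv_snd, ← genPt_πR,
      pullback.condition_assoc])
  have hr : Set.range aT ⊆ Set.range U.ι := by
    rw [Scheme.Opens.range_ι]
    rintro _ ⟨z, rfl⟩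
    refine hsub ⟨e.hom z, ?_⟩
    rw [← Scheme.Hom.comp_apply, haT.isoPullback_hom_fst]
  let O : (Spec (CommRingCat.of R)).Opens :=
    ⟨(pY '' (U : Set _)ᶜ)ᶜ, (pY.isClosedMap _ U.2.isClosed_compl).isOpen_compl⟩
  refine ⟨aT, U, g, IsOpenImmersion.lift U.ι aT hr, O, haT.w, hg, IsOpenImmersion.lift_fac _ _ _, ?_, ?_, ?_⟩
  · have h1 := hl (e.inv ≫ IsOpenImmersion.lift U.ι aT hr) (by
      rw [Category.assoc, IsOpenImmersion.lift_fac, haT.isoPullback_inv_fst])
    rw [Category.assoc] at h1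
    exact (cancel_epi e.inv).1 h1
  · rintro _ ⟨z, rfl⟩ ⟨y, hy, hyz⟩
    obtain ⟨w, hw, -⟩ := Scheme.Pullback.exists_preimage_pullback (f := pY) (g := Neron.genPt R) y z hyz
    exact hy (hsub ⟨w, hw⟩)
  · intro y hy
    by_contra hyU
    exact hy ⟨y, hyU, rfl⟩

end Groth.Agent.REqPhi95
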